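import Mathlib
import Groth.Prelude.Def_EtLim

/-!
# S14389: definitions for the squad (helper67)
-/

set_option autoImplicit false
universe u
open CategoryTheory CategoryTheory.Limits AlgebraicGeometry Opposite

namespace Groth.Agent.H67.HpullBC

/-- `f⁻¹ ⋙ g'⁻¹ ≅ g⁻¹ ⋙ f'⁻¹` for a commutative square `g' ≫ f = f' ≫ g`. -/
noncomputable def Theta {X Y X' Y' : Scheme.{u}} (f : X ⟶ Y) (g : Y' ⟶ Y) (f' : X' ⟶ Y')
    (g' : X' ⟶ X) (w : g' ≫ f = f' ≫ g) :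
    EtCoh.pull f ⋙ EtCoh.pull g' ≅ EtCoh.pull g ⋙ EtCoh.pull f' :=
  (EtCore.pullComp g' f).symm ≪≫ EtCore.pullCongr w ≪≫ EtCore.pullComp f' g

end Groth.Agent.H67.HpullBC
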